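import Groth.Agent.Lefpen.H701.Rk
import Mathlib.RingTheory.MvPolynomial.Homogeneous
import Mathlib.Algebra.MvPolynomial.PDeriv
import Mathlib.Data.Finsupp.Weight

/-!
# The transcendence degree count for the smoothness of generic complete intersections

* `sum_monomials`: a linear map on a homogeneous polynomial as a sum over all monomials of that degree.
* `no_singular_point`: forms `g_1..g_d` whose coefficients are all together algebraically independent over `k₀` have no
  singular common zero `x` (`x_j = 1`) with multipliers `λ` (`λ_i = 1`), with values in any field.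
-/

set_option autoImplicit false

universe u v w

namespace Groth.Agent.Lefpen.H649.Generic

open MvPolynomial Groth.Agent.Lefpen.H701.Rk

/-- the exponents of the monomials of degree `D`. -/
abbrev Mon (n D : ℕ) : Type := {m : Fin n →₀ ℕ // m.degree = D}

instance (n D : ℕ) : Finite (Mon n D) := (Finsupp.finite_of_degree_eq (σ := Fin n) D).to_subtype

noncomputable instance (n D : ℕ) : Fintype (Mon n D) := Fintype.ofFinite _

section

variable {K : Type*} [CommRing K] {F : Type*} [AddCommGroup F] [Module K F]

theorem sum_monomials {n D : ℕ} (φ : MvPolynomial (Fin n) K →ₗ[K] F) (p : MvPolynomial (Fin n) K)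
    (hp : p.IsHomogeneous D) :
    φ p = ∑ m : Mon n D, coeff m.1 p • φ (monomial m.1 1) := by
  classical
  let S : Finset (Fin n →₀ ℕ) := Finset.univ.map (Function.Embedding.subtype (fun m : Fin n →₀ ℕ => m.degree = D))
  have hS : p.support ⊆ S := by
    intro m hm
    rw [Finset.mem_map]
    have : m.degree = D := by
      by_contra h
      exact (mem_support_iff.1 hm) (hp.coeff_eq_zero h)
    exact ⟨⟨m, this⟩, Finset.mem_univ _, rfl⟩
  have h1 : φ p = ∑ m ∈ S, coeff m p • φ (monomial m 1) := by
    conv_lhs => rw [p.as_sum, map_sum]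
    rw [← Finset.sum_subset hS (fun m _ hm => by rw [notMem_support_iff.1 hm, zero_smul])]
    refine Finset.sum_congr rfl fun m _ => ?_
    rw [← map_smul, smul_monomial, smul_eq_mul, mul_one]
  rw [h1, Finset.sum_map]
  rfl

end

section

variable {k₀ : Type*} {K F : Type u} [Field k₀] [Field K] [Field F] [Algebra k₀ K] [Algebra K F] [Algebra k₀ F]
  [IsScalarTower k₀ K F]
variable {N d : ℕ} {a : Fin d → ℕ} (g : Fin d → MvPolynomial (Fin (N + 1)) K)

theorem rk_range_zero {ι : Type*} (k : Type*) {F : Type*} [Field k] [Field F] [Algebra k F] :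
    rk k (Set.range (fun _ : ι => (0 : F))) = 0 := by
  have h : rk k (Set.range (fun _ : ι => (0 : F))) ≤ rk k (∅ : Set F) := by
    refine rk_le_of_subset_cl k ?_
    rintro _ ⟨i, rfl⟩
    have := algebraMap_mem_cl k (∅ : Set F) (0 : k)
    simpa using this
  have h2 : rk k (∅ : Set F) ≤ 0 := by
    have := rk_le_encard k (∅ : Set F)
    simpa using this
  exact le_antisymm (h.trans h2) bot_le

theorem no_singular_point (ha : ∀ j, 1 ≤ a j) (hg : ∀ i, (g i).IsHomogeneous (a i))
    (hG : AlgebraicIndependent k₀ (fun jm : (Σ j : Fin d, {m : Fin (N + 1) →₀ ℕ // m.degree = a j}) =>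
      coeff jm.2.1 (g jm.1)))
    (x : Fin (N + 1) → F) (j₀ : Fin (N + 1)) (hx : x j₀ = 1) (lam : Fin d → F) (i₀ : Fin d) (hlam : lam i₀ = 1)
    (h1 : ∀ i, aeval x (g i) = 0) (h2 : ∀ l, ∑ i, lam i * aeval x (pderiv l (g i)) = 0) : False := by
  classical
  let ι : Type := Σ j : Fin d, Mon (N + 1) (a j)
  let M : Type := Fin d ⊕ Fin N
  let y : ι → F := fun jm => algebraMap K F (coeff jm.2.1 (g jm.1))
  let C : Matrix M ι F := fun s jm => Sum.elim
    (fun i : Fin d => if jm.1 = i then aeval (R := K) x (monomial jm.2.1 (1 : K)) else 0)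
    (fun l : Fin N => lam jm.1 * aeval (R := K) x (pderiv (j₀.succAbove l) (monomial jm.2.1 (1 : K)))) s
  let t : Set F := Set.range (fun l : Fin N => x (j₀.succAbove l)) ∪ Set.range (fun i : {i : Fin d // i ≠ i₀} => lam i.1)
  -- the unknowns
  have hy : rk k₀ (Set.range y) = Fintype.card ι := by
    refine rk_range_of_algebraicIndependent k₀ ?_
    exact hG.map' (f := IsScalarTower.toAlgHom k₀ K F) (algebraMap K F).injective
  -- rank of the parameters
  have ht : rk k₀ t ≤ ((N + (d - 1) : ℕ) : ℕ∞) := by
    refine (rk_union_le k₀ _ _).trans ?_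
    have e1 := rk_range_le k₀ (fun l : Fin N => x (j₀.succAbove l))
    have e2 := rk_range_le k₀ (fun i : {i : Fin d // i ≠ i₀} => lam i.1)
    rw [Fintype.card_fin] at e1
    have e3 : Fintype.card {i : Fin d // i ≠ i₀} = d - 1 := by
      rw [Fintype.card_subtype_compl]; simp
    rw [e3] at e2
    push_cast
    have := add_le_add e1 e2
    push_cast at this
    exact this
  have hxt : ∀ l, x l ∈ clField k₀ t := by
    intro l
    obtain rfl | ⟨m, rfl⟩ := Fin.eq_self_or_eq_succAbove j₀ l
    · rw [hx]; exact one_mem _
    · exact (mem_clField k₀).2 (subset_cl k₀ _ (Or.inl ⟨m, rfl⟩))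
  have hlt : ∀ i, lam i ∈ clField k₀ t := by
    intro i
    by_cases hi : i = i₀
    · rw [hi, hlam]; exact one_mem _
    · exact (mem_clField k₀).2 (subset_cl k₀ _ (Or.inr ⟨⟨i, hi⟩, rfl⟩))
  have hmon : ∀ (m : Fin (N + 1) →₀ ℕ), aeval (R := K) x (monomial m (1 : K)) ∈ clField k₀ t := by
    intro m
    rw [aeval_monomial, map_one, one_mul, Finsupp.prod]
    exact prod_mem fun i _ => pow_mem (hxt i) _
  have hCt : ∀ s jm, C s jm ∈ cl k₀ t := by
    intro s jm
    rw [← mem_clField]
    rcases s with i | l
    · simp only [C, Sum.elim_inl]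
      split_ifs
      · exact hmon _
      · exact zero_mem _
    · simp only [C, Sum.elim_inr]
      refine mul_mem (hlt _) ?_
      rw [pderiv_monomial, one_mul]
      have : (monomial (jm.2.1 - Finsupp.single (j₀.succAbove l) 1) ((jm.2.1 (j₀.succAbove l) : ℕ) : K) :
          MvPolynomial (Fin (N + 1)) K) = (jm.2.1 (j₀.succAbove l)) •
          monomial (jm.2.1 - Finsupp.single (j₀.succAbove l) 1) (1 : K) := by
        rw [smul_monomial, nsmul_eq_mul, mul_one]
      rw [this, map_nsmul]
      exact nsmul_mem (hmon _) _
  -- surjectivity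
  have hC : Function.Surjective C.mulVec := by
    have hcol : ∀ jm, C.col jm ∈ LinearMap.range C.mulVecLin := by
      intro jm
      refine ⟨Pi.single jm 1, ?_⟩
      rw [Matrix.mulVecLin_apply, Matrix.mulVec_single_one]
    let p : Fin d → ι := fun i => ⟨i, ⟨Finsupp.single j₀ (a i), by simp⟩⟩
    have hp1 : ∀ i i' : Fin d, C (Sum.inl i') (p i) = if i = i' then 1 else 0 := by
      intro i i'
      simp only [C, p, Sum.elim_inl]
      split_ifs
      · rw [aeval_monomial, map_one, one_mul, Finsupp.prod_single_index (by simp), hx, one_pow]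
      · rfl
    have hp2 : ∀ (i : Fin d) (l : Fin N), C (Sum.inr l) (p i) = 0 := by
      intro i l
      simp only [C, p, Sum.elim_inr]
      rw [pderiv_monomial, Finsupp.single_eq_of_ne (Fin.succAbove_ne j₀ l)]
      simp
    let q : Fin N → ι := fun l => ⟨i₀, ⟨Finsupp.single (j₀.succAbove l) 1 + Finsupp.single j₀ (a i₀ - 1), by
      rw [map_add, Finsupp.degree_single, Finsupp.degree_single]
      have := ha i₀
      omega⟩⟩
    have hq1 : ∀ (l : Fin N) (i' : Fin d), C (Sum.inl i') (q l) = if i₀ = i' then x (j₀.succAbove l) else 0 := by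
      intro l i'
      simp only [C, q, Sum.elim_inl]
      split_ifs
      · rw [aeval_monomial, map_one, one_mul, Finsupp.prod_add_index' (by simp) (by intros; rw [pow_add]),
          Finsupp.prod_single_index (by simp), Finsupp.prod_single_index (by simp), hx, one_pow, pow_one, mul_one]
      · rfl
    have hq2 : ∀ (l l' : Fin N), C (Sum.inr l') (q l) = if l = l' then 1 else 0 := by
      intro l l'
      simp only [C, q, Sum.elim_inr]
      rw [hlam, one_mul, pderiv_monomial, one_mul]
      have hne : Finsupp.single j₀ (a i₀ - 1) (j₀.succAbove l') = 0 :=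
        Finsupp.single_eq_of_ne (Fin.succAbove_ne j₀ l')
      rw [Finsupp.add_apply, hne, add_zero]
      split_ifs with h
      · subst h
        rw [Finsupp.single_eq_same, add_tsub_cancel_left]
        rw [aeval_monomial, Finsupp.prod_single_index (by simp), hx, one_pow]
        simp
      · rw [Finsupp.single_eq_of_ne]
        · simp
        · exact fun h' => h ((Fin.succAbove_right_injective h').symm)
    have hinl : ∀ i : Fin d, (Pi.single (Sum.inl i) 1 : M → F) ∈ LinearMap.range C.mulVecLin := by
      intro i
      have : (Pi.single (Sum.inl i) 1 : M → F) = C.col (p i) := by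
        funext s
        rcases s with i' | l
        · rw [Matrix.col_apply, hp1]
          by_cases h : i = i'
          · subst h; simp
          · rw [if_neg h, Pi.single_eq_of_ne]
            exact fun h' => h (Sum.inl_injective h').symm
        · rw [Matrix.col_apply, hp2, Pi.single_eq_of_ne (by simp)]
      rw [this]
      exact hcol _
    have hinr : ∀ l : Fin N, (Pi.single (Sum.inr l) 1 : M → F) ∈ LinearMap.range C.mulVecLin := by
      intro l
      have : (Pi.single (Sum.inr l) 1 : M → F) =
          C.col (q l) - x (j₀.succAbove l) • (Pi.single (Sum.inl i₀) 1 : M → F) := by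
        funext s
        rcases s with i' | l'
        · rw [Pi.sub_apply, Pi.smul_apply, Matrix.col_apply, hq1]
          by_cases h : i₀ = i'
          · subst h; simp
          · rw [if_neg h, Pi.single_eq_of_ne (by simp), Pi.single_eq_of_ne]
            · simp
            · exact fun h' => h (Sum.inl_injective h').symm
        · rw [Pi.sub_apply, Pi.smul_apply, Matrix.col_apply, hq2, Pi.single_eq_of_ne (by simp : (Sum.inr l' : M) ≠ Sum.inl i₀)]
          by_cases h : l = l'
          · subst h; simp
          · rw [if_neg h, Pi.single_eq_of_ne]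
            · simp
            · exact fun h' => h (Sum.inr_injective h').symm
      rw [this]
      exact Submodule.sub_mem _ (hcol _) (Submodule.smul_mem _ _ (hinl i₀))
    have htop : LinearMap.range C.mulVecLin = ⊤ := by
      rw [eq_top_iff]
      intro z _
      have hz : z = ∑ s, z s • (Pi.single s 1 : M → F) := by
        funext s
        simp only [Finset.sum_apply, Pi.smul_apply, Pi.single_apply, smul_eq_mul, mul_ite, mul_one, mul_zero]
        rw [Finset.sum_ite_eq]
        simp
      rw [hz]
      refine Submodule.sum_mem _ fun s _ => Submodule.smul_mem _ _ ?_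
      rcases s with i | l
      · exact hinl i
      · exact hinr l
    exact LinearMap.range_eq_top.1 htop
  -- the equations
  have hsys : C.mulVec y = fun _ => 0 := by
    funext s
    rw [Matrix.mulVec, dotProduct, Fintype.sum_sigma]
    rcases s with i | l
    · rw [Finset.sum_eq_single i]
      · have e := sum_monomials (aeval (R := K) x).toLinearMap (g i) (hg i)
        rw [AlgHom.toLinearMap_apply, h1 i] at e
        rw [e]
        refine Finset.sum_congr rfl fun m _ => ?_
        simp only [C, y, Sum.elim_inl, if_true, AlgHom.toLinearMap_apply]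
        rw [Algebra.smul_def, mul_comm]
      · intro i' _ hi'
        refine Finset.sum_eq_zero fun m _ => ?_
        simp only [C, Sum.elim_inl]
        rw [if_neg hi', zero_mul]
      · simp
    · rw [← h2 (j₀.succAbove l)]
      refine Finset.sum_congr rfl fun i _ => ?_
      have e := sum_monomials ((aeval (R := K) x).toLinearMap ∘ₗ (pderiv (R := K) (j₀.succAbove l)).toLinearMap)
        (g i) (hg i)
      change aeval x (pderiv (j₀.succAbove l) (g i)) = _ at e
      rw [e, Finset.mul_sum]
      refine Finset.sum_congr rfl fun m _ => ?_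
      simp only [C, y, Sum.elim_inr, LinearMap.comp_apply, AlgHom.toLinearMap_apply]
      rw [Algebra.smul_def]
      change lam i * aeval x (pderiv (j₀.succAbove l) (monomial m.1 1)) * _ =
        lam i * (_ * aeval x (pderiv (j₀.succAbove l) (monomial m.1 1)))
      ring
  have hfin := rk_le_of_linear_system k₀ t C hCt hC y (fun _ => 0) hsys
  rw [hy, rk_range_zero k₀, add_zero] at hfin
  have hcard : Fintype.card M ≤ Fintype.card ι := by
    obtain ⟨β, hβ, -⟩ := exists_minor C hC
    exact Fintype.card_le_of_injective β hβ
  have hM : Fintype.card M = d + N := by simp [M]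
  have h3 : (Fintype.card ι : ℕ∞) ≤ ((N + (d - 1) : ℕ) : ℕ∞) + ((Fintype.card ι - Fintype.card M : ℕ) : ℕ∞) :=
    hfin.trans (add_le_add ht le_rfl)
  have h4 : Fintype.card ι ≤ (N + (d - 1)) + (Fintype.card ι - Fintype.card M) := by exact_mod_cast h3
  have hd : 0 < d := i₀.pos
  omega

end

end Groth.Agent.Lefpen.H649.Generic
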