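import Groth.Agent.Lefpen.H649.Converse
import Groth.Agent.Lefpen.H649.Generic

/-!
# Generic complete intersections are smooth, over any field containing their coefficients

* `jacCond_of_generic`: forms of degrees `≥ 1` whose coefficients are all together algebraically independent over some
  subfield `k₀` satisfy the homogeneous Jacobian condition `JacCond`.
* `smooth_of_generic`: hence `V(G_1..G_d) ⊆ P^{n+d}_K` is smooth of relative dimension `n` over `K`.
* `smooth_of_generic_prime`: the case of the prime field `⊥ : Subfield K`.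
* `smooth_of_generic_map`: the same for the images of the forms under a field extension `K → L`.
-/

set_option autoImplicit false
universe u v

open CategoryTheory AlgebraicGeometry Limits TopologicalSpace Opposite MvPolynomial

namespace Groth.Agent.Lefpen.H649.GenericSmooth

open LefPen Groth.Agent.Lefpen.H718.Chart Groth.Agent.Lefpen.H718.Reg Groth.Agent.Lefpen.H718.Jac

variable {K : Type u} [Field K] {N d : ℕ} {a : Fin d → ℕ}

theorem jacCond_of_generic (k₀ : Type v) [Field k₀] [Algebra k₀ K] (g : Fin d → MvPolynomial (Fin (N + 1)) K)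
    (ha : ∀ j, 1 ≤ a j) (hg : ∀ i, (g i).IsHomogeneous (a i))
    (hG : AlgebraicIndependent k₀ (fun jm : (Σ j : Fin d, {m : Fin (N + 1) →₀ ℕ // m.degree = a j}) =>
      coeff jm.2.1 (g jm.1))) : JacCond g := by
  intro F _ v hv ⟨j, hj⟩
  let _ : Algebra K F := (v.comp C).toAlgebra
  let _ : Algebra k₀ F := ((algebraMap K F).comp (algebraMap k₀ K)).toAlgebra
  have _ : IsScalarTower k₀ K F := IsScalarTower.of_algebraMap_eq fun _ => rfl
  rw [Fintype.linearIndependent_iff]
  intro c hc i₀
  by_contra hi₀
  let s : F := v (X j)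
  let x : Fin (N + 1) → F := fun l => v (X l) / s
  have hv' : ∀ p, v p = aeval (R := K) (fun l => v (X l)) p := by
    have : v = ((aeval (R := K) (fun l => v (X l)) : MvPolynomial (Fin (N + 1)) K →ₐ[K] F) :
        MvPolynomial (Fin (N + 1)) K →+* F) := by
      apply MvPolynomial.ringHom_ext
      · intro r
        simp only [RingHom.coe_coe, MvPolynomial.aeval_C]
        rfl
      · intro i
        simp
    intro p
    conv_lhs => rw [this]
    rfl
  have hscale : ∀ (D : ℕ) (p : MvPolynomial (Fin (N + 1)) K), p.IsHomogeneous D → v p = s ^ D * aeval x p := by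
    intro D p hp
    rw [hv']
    have h1 : (fun l => v (X l)) = s • x := by
      funext l
      simp only [x, Pi.smul_apply, smul_eq_mul]
      rw [mul_div_cancel₀ _ hj]
    rw [h1, aeval_def, aeval_def, eval₂_eq', eval₂_eq', Finset.mul_sum]
    refine Finset.sum_congr rfl fun m hm => ?_
    have hd : ∑ j, m j = D := by
      have := hp (mem_support_iff.1 hm)
      rw [← this, Finsupp.weight_apply, Finsupp.sum_fintype _ _ (by simp)]
      simp
    rw [← hd, ← Finset.prod_pow_eq_pow_sum, mul_left_comm, ← Finset.prod_mul_distrib]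
    congr 1
    exact Finset.prod_congr rfl fun i _ => by rw [Pi.smul_apply, smul_eq_mul, mul_pow]
  let lam : Fin d → F := fun i => (c i * s ^ (a i - 1)) / (c i₀ * s ^ (a i₀ - 1))
  have hne : c i₀ * s ^ (a i₀ - 1) ≠ 0 := mul_ne_zero hi₀ (pow_ne_zero _ hj)
  refine Generic.no_singular_point g ha hg hG x j (div_self hj) lam i₀ (div_self hne) (fun i => ?_) (fun l => ?_)
  · have h := hscale (a i) (g i) (hg i)
    rw [hv] at h
    exact (mul_eq_zero.1 h.symm).resolve_left (pow_ne_zero _ hj)
  · have h := congrFun hc l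
    simp only [Finset.sum_apply, Pi.smul_apply, smul_eq_mul, Pi.zero_apply] at h
    have h2 : ∑ i, (c i * s ^ (a i - 1)) * aeval x (pderiv l (g i)) = 0 := by
      rw [← h]
      refine Finset.sum_congr rfl fun i _ => ?_
      rw [hscale (a i - 1) _ (IsHomogeneous.pderiv (hg i)), mul_assoc]
    have h3 : ∑ i, lam i * aeval x (pderiv l (g i)) =
        (∑ i, (c i * s ^ (a i - 1)) * aeval x (pderiv l (g i))) * (c i₀ * s ^ (a i₀ - 1))⁻¹ := by
      rw [Finset.sum_mul]
      refine Finset.sum_congr rfl fun i _ => ?_
      simp only [lam, div_eq_mul_inv]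
      ring
    rw [h3, h2, zero_mul]

variable {n : ℕ} {a : Fin d → ℕ}

/-- Generic complete intersections are smooth: coefficients independent over any `k₀`. -/
theorem smooth_of_generic (k₀ : Type v) [Field k₀] [Algebra k₀ K] (ha : ∀ j, 1 ≤ a j)
    (G : ∀ j : Fin d, Form (n + d) K (a j))
    (hG : AlgebraicIndependent k₀ (fun jm : (Σ j : Fin d, {m : Fin (n + d + 1) →₀ ℕ // m.degree = a j}) =>
      coeff jm.2.1 (G jm.1).1)) :
    SmoothOfRelativeDimension n ((ciIdeal G).subschemeι ≫ CohB1.ProjSpace.toSpec (n + d) K) :=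
  Converse.smooth_of_jacCond G rfl (jacCond_of_generic k₀ (fun i => (G i).1) ha (fun i => (G i).2) hG)

/-- NL-6: coefficients independent over the prime field. -/
theorem smooth_of_generic_prime (ha : ∀ j, 1 ≤ a j) (G : ∀ j : Fin d, Form (n + d) K (a j))
    (hG : AlgebraicIndependent (⊥ : Subfield K)
      (fun jm : (Σ j : Fin d, {m : Fin (n + d + 1) →₀ ℕ // m.degree = a j}) => coeff jm.2.1 (G jm.1).1)) :
    SmoothOfRelativeDimension n ((ciIdeal G).subschemeι ≫ CohB1.ProjSpace.toSpec (n + d) K) :=
  smooth_of_generic (⊥ : Subfield K) ha G hG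

/-- The image of a form under a field homomorphism. -/
noncomputable def mapForm {L : Type u} [Field L] (φ : K →+* L) {r D : ℕ} (H : Form r K D) : Form r L D :=
  ⟨MvPolynomial.map φ H.1, (MvPolynomial.mem_homogeneousSubmodule _ _).2
    (MvPolynomial.IsHomogeneous.map ((MvPolynomial.mem_homogeneousSubmodule _ _).1 H.2) φ)⟩

/-- Generic complete intersections stay smooth after any field extension. -/
theorem smooth_of_generic_map (k₀ : Type v) [Field k₀] [Algebra k₀ K] (ha : ∀ j, 1 ≤ a j)
    (G : ∀ j : Fin d, Form (n + d) K (a j))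
    (hG : AlgebraicIndependent k₀ (fun jm : (Σ j : Fin d, {m : Fin (n + d + 1) →₀ ℕ // m.degree = a j}) =>
      coeff jm.2.1 (G jm.1).1)) {L : Type u} [Field L] (φ : K →+* L) :
    SmoothOfRelativeDimension n ((ciIdeal (fun j => mapForm φ (G j))).subschemeι ≫
      CohB1.ProjSpace.toSpec (n + d) L) := by
  let _ : Algebra K L := φ.toAlgebra
  let _ : Algebra k₀ L := (φ.comp (algebraMap k₀ K)).toAlgebra
  have _ : IsScalarTower k₀ K L := IsScalarTower.of_algebraMap_eq fun _ => rfl
  refine smooth_of_generic k₀ ha (fun j => mapForm φ (G j)) ?_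
  have h := hG.map' (f := IsScalarTower.toAlgHom k₀ K L) φ.injective
  convert h using 1
  funext jm
  exact MvPolynomial.coeff_map φ (G jm.1).1 jm.2.1

end Groth.Agent.Lefpen.H649.GenericSmooth
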