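import Mathlib.RingTheory.Smooth.StandardSmooth
import Mathlib.RingTheory.RingHom.LocallyStandardSmooth
import Mathlib.RingTheory.RingHom.Locally
import Mathlib.LinearAlgebra.Matrix.Rank
import Mathlib.RingTheory.LocalRing.ResidueField.Ideal
import Mathlib.RingTheory.Extension.Presentation.Submersive

/-!
# The Jacobian criterion: `k[x_1..x_r]/(g_1..g_d)` is locally standard smooth of relative dimension `r - d`
when the Jacobian matrix has rank `d` at every maximal ideal
-/

set_option autoImplicit false

universe u

namespace Groth.Agent.Lefpen.H649.JacSmooth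

open MvPolynomial

/-- If `T` is the localization of `S` away from `r` and the Jacobian of a finite presubmersive
presentation of `S` over `R` becomes invertible in `T`, then `T` is standard smooth over `R`. -/
theorem isStandardSmoothOfRelativeDimension_of_isLocalizationAway {R S T ι σ : Type*} [CommRing R] [CommRing S]
    [CommRing T] [Algebra R S] [Algebra S T] [Algebra R T] [IsScalarTower R S T] [Finite σ]
    [Finite ι] (P : Algebra.PreSubmersivePresentation R S ι σ) (r : S)
    [IsLocalization.Away r T] (hr : IsUnit (algebraMap S T P.jacobian)) (n : ℕ)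
    (hn : P.dimension = n) :
    Algebra.IsStandardSmoothOfRelativeDimension n R T := by
  let Q := Algebra.SubmersivePresentation.localizationAway T r
  let P' : Algebra.SubmersivePresentation R T (Unit ⊕ ι) (Unit ⊕ σ) :=
    { __ := Q.toPreSubmersivePresentation.comp P
      jacobian_isUnit := by
        rw [Algebra.PreSubmersivePresentation.comp_jacobian_eq_jacobian_smul_jacobian,
          Algebra.smul_def, IsUnit.mul_iff]
        exact ⟨hr, Q.jacobian_isUnit⟩ }
  refine P'.isStandardSmoothOfRelativeDimension ?_
  have h1 : P.dimension = n := hn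
  rw [Algebra.Presentation.dimension] at h1 ⊢
  rw [Nat.card_sum, Nat.card_sum]
  omega

section

variable {k : Type u} [CommRing k] {r d n : ℕ} (g : Fin d → MvPolynomial (Fin r) k)

/-- The minor of the Jacobian matrix with columns `σ`. -/
noncomputable def minor (σ : Fin d → Fin r) : MvPolynomial (Fin r) k :=
  (Matrix.of fun (i l : Fin d) => pderiv (σ l) (g i)).det

theorem locally_quotient (hr : r = n + d)
    (h : ∀ m : Ideal (MvPolynomial (Fin r) k ⧸ Ideal.span (Set.range g)), m.IsMaximal →
      ∃ σ : Fin d → Fin r, Ideal.Quotient.mk _ (minor g σ) ∉ m) :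
    RingHom.Locally (RingHom.IsStandardSmoothOfRelativeDimension n)
      (algebraMap k (MvPolynomial (Fin r) k ⧸ Ideal.span (Set.range g))) := by
  let C := MvPolynomial (Fin r) k ⧸ Ideal.span (Set.range g)
  refine ⟨{t : C | ∃ σ : Fin d → Fin r, Function.Injective σ ∧ t = Ideal.Quotient.mk _ (minor g σ)}, ?_, ?_⟩
  · by_contra hne
    obtain ⟨m, hm, hle⟩ := Ideal.exists_le_maximal _ hne
    obtain ⟨σ, hσ⟩ := h m hm
    apply hσ
    by_cases hinj : Function.Injective σ
    · exact hle (Ideal.subset_span ⟨σ, hinj, rfl⟩)
    · have h0 : minor g σ = 0 := by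
        rw [Function.Injective] at hinj
        push Not at hinj
        obtain ⟨a, b, hab, hne⟩ := hinj
        refine Matrix.det_zero_of_column_eq hne fun i => ?_
        simp [hab]
      rw [h0, map_zero]
      exact zero_mem _
  · rintro _ ⟨σ, hσ, rfl⟩
    let P : Algebra.PreSubmersivePresentation k C (Fin r) (Fin d) :=
      Algebra.PreSubmersivePresentation.naive σ hσ
    have hP : P.jacobian = Ideal.Quotient.mk _ (minor g σ) := by
      rw [Algebra.PreSubmersivePresentation.jacobian_eq_jacobiMatrix_det]
      have h1 : P.jacobiMatrix = (Matrix.of fun (i l : Fin d) => pderiv (σ l) (g i)).transpose := by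
        ext1 i j
        rw [Algebra.PreSubmersivePresentation.jacobiMatrix_naive]
        rfl
      rw [h1, Matrix.det_transpose]
      rfl
    have hsm := isStandardSmoothOfRelativeDimension_of_isLocalizationAway (T := Localization.Away P.jacobian) P
      P.jacobian (IsLocalization.Away.algebraMap_isUnit P.jacobian) n (by
        rw [Algebra.Presentation.dimension]
        simp [hr])
    rw [← hP, ← IsScalarTower.algebraMap_eq, RingHom.isStandardSmoothOfRelativeDimension_algebraMap]
    exact hsm

theorem locally_of_surjective {C : Type u} [CommRing C] (π : MvPolynomial (Fin r) k →+* C)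
    (hπ : Function.Surjective π) (hker : RingHom.ker π = Ideal.span (Set.range g)) (hr : r = n + d)
    (h : ∀ m : Ideal C, m.IsMaximal → ∃ σ : Fin d → Fin r, π (minor g σ) ∉ m) :
    RingHom.Locally (RingHom.IsStandardSmoothOfRelativeDimension n) (π.comp MvPolynomial.C) := by
  have h1 := locally_quotient g hr (n := n) (fun m hm => by
    let e : (MvPolynomial (Fin r) k ⧸ Ideal.span (Set.range g)) ≃+* C :=
      (Ideal.quotEquivOfEq hker.symm).trans (RingHom.quotientKerEquivOfSurjective hπ)
    have hmax : (m.comap (e.symm : C →+* _)).IsMaximal := Ideal.comap_isMaximal_of_equiv e.symm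
    obtain ⟨σ, hσ⟩ := h _ hmax
    refine ⟨σ, fun hmem => hσ ?_⟩
    rw [Ideal.mem_comap]
    have : e.symm (π (minor g σ)) = Ideal.Quotient.mk _ (minor g σ) := by
      rw [RingEquiv.symm_apply_eq]
      rfl
    change e.symm (π (minor g σ)) ∈ m
    rw [this]
    exact hmem)
  let e : (MvPolynomial (Fin r) k ⧸ Ideal.span (Set.range g)) ≃+* C :=
    (Ideal.quotEquivOfEq hker.symm).trans (RingHom.quotientKerEquivOfSurjective hπ)
  have h2 := (RingHom.locally_respectsIso RingHom.isStandardSmoothOfRelativeDimension_respectsIso).1 _ e h1
  exact h2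

end

end Groth.Agent.Lefpen.H649.JacSmooth
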