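import Groth.Agent.Lefpen.H718.JacCI
import Groth.Agent.Lefpen.H649.JacSmooth

/-!
# The converse of the homogeneous Jacobian criterion (any base field)

* `smooth_of_jacCond`: `JacCond (G_1..G_d)` implies that `V(G_1..G_d) ⊆ P^{n+d}_k` is smooth of relative dimension `n`.
-/

set_option autoImplicit false
universe u

open CategoryTheory AlgebraicGeometry Limits TopologicalSpace Opposite MvPolynomial

namespace Groth.Agent.Lefpen.H649.Converse

open LefPen Groth.Agent.Lefpen.H718.Chart Groth.Agent.Lefpen.H718.Reg Groth.Agent.Lefpen.H718.Jac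
open Groth.Agent.Lefpen.H649.JacSmooth
open Groth.Agent.Sga5

variable {N d : ℕ} {k : Type u} [Field k]

/-- Euler: the relations between the gradients away from the `j`-th coordinate are relations. -/
theorem indep_of_euler {F : Type u} [Field F] (v : MvPolynomial (Fin (N + 1)) k →+* F) (j : Fin (N + 1))
    (hj : v (X j) ≠ 0) {a : Fin d → ℕ} (g : Fin d → MvPolynomial (Fin (N + 1)) k)
    (hg : ∀ i, (g i).IsHomogeneous (a i)) (hv : ∀ i, v (g i) = 0)
    (h : LinearIndependent F (fun i : Fin d => fun l : Fin (N + 1) => v (pderiv l (g i)))) :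
    LinearIndependent F (fun i : Fin d => fun l : Fin N => v (pderiv (j.succAbove l) (g i))) := by
  rw [Fintype.linearIndependent_iff] at h ⊢
  intro c hc
  refine h c ?_
  have h1 : ∀ l : Fin N, ∑ i, c i * v (pderiv (j.succAbove l) (g i)) = 0 := by
    intro l
    have := congrFun hc l
    simpa using this
  have h2 : ∑ i, c i * v (pderiv j (g i)) = 0 := by
    have e : ∀ i, v (X j) * v (pderiv j (g i)) +
        ∑ l : Fin N, v (X (j.succAbove l)) * v (pderiv (j.succAbove l) (g i)) = 0 := by
      intro i
      have := congrArg v (MvPolynomial.IsHomogeneous.sum_X_mul_pderiv (hg i))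
      rw [map_sum, map_nsmul, hv, smul_zero, Fin.sum_univ_succAbove _ j] at this
      simpa using this
    have h3 : v (X j) * ∑ i, c i * v (pderiv j (g i)) = 0 := by
      have h4 : v (X j) * ∑ i, c i * v (pderiv j (g i)) =
          - ∑ l : Fin N, v (X (j.succAbove l)) * ∑ i, c i * v (pderiv (j.succAbove l) (g i)) := by
        rw [Finset.mul_sum]
        simp_rw [Finset.mul_sum]
        rw [Finset.sum_comm, ← Finset.sum_neg_distrib]
        refine Finset.sum_congr rfl fun i _ => ?_
        have h5 := e i
        have h6 : v (X j) * v (pderiv j (g i)) =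
          - ∑ l : Fin N, v (X (j.succAbove l)) * v (pderiv (j.succAbove l) (g i)) := eq_neg_of_add_eq_zero_left h5
        rw [mul_left_comm, h6, mul_neg, Finset.mul_sum]
        congr 1
        exact Finset.sum_congr rfl fun l _ => by ring
      rw [h4]
      simp [h1]
    exact (mul_eq_zero.1 h3).resolve_left hj
  funext l
  simp only [Finset.sum_apply, Pi.smul_apply, smul_eq_mul, Pi.zero_apply]
  obtain rfl | ⟨m, rfl⟩ := Fin.eq_self_or_eq_succAbove j l
  · exact h2
  · exact h1 m

variable {a : Fin d → ℕ} (G : ∀ j : Fin d, Form N k (a j)) {n : ℕ}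

theorem locally_strMap (hN : N = n + d) (hJ : JacCond fun i => (G i).1) (j : Fin (N + 1)) :
    RingHom.Locally (RingHom.IsStandardSmoothOfRelativeDimension n) (strMap G j) := by
  refine locally_of_surjective (fun i => ProjChart.dehom N k j (G i).1) (toY G j) (toY_surjective G j)
    (ker_toY G j) hN fun m hm => ?_
  let v : MvPolynomial (Fin (N + 1)) k →+* m.ResidueField :=
    (algebraMap Γ(Y G, ychart G j) m.ResidueField).comp
      ((toY G j).comp ((ProjChart.dehom N k j : MvPolynomial (Fin (N + 1)) k →+* _)))
  have hvapp : ∀ p, v p = algebraMap Γ(Y G, ychart G j) m.ResidueField (toY G j (ProjChart.dehom N k j p)) :=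
    fun p => rfl
  have hv : ∀ i, v (G i).1 = 0 := by
    intro i
    have : ProjChart.dehom N k j (G i).1 ∈ RingHom.ker (toY G j) := by
      rw [ker_toY]
      exact Ideal.subset_span ⟨i, rfl⟩
    rw [hvapp, (RingHom.mem_ker.1 this), map_zero]
  have hj : v (X j) ≠ 0 := by
    rw [hvapp, ProjChart.dehom_X_self, map_one, map_one]
    exact one_ne_zero
  have h1 := hJ m.ResidueField v hv ⟨j, hj⟩
  have h2 := indep_of_euler v j hj (fun i => (G i).1) (fun i => (G i).2) hv h1
  obtain ⟨σ, hσ⟩ := H718.Minor.exists_minor
    (Matrix.of fun (i : Fin d) (l : Fin N) => v (pderiv (j.succAbove l) (G i).1)) h2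
  refine ⟨σ, fun hmem => hσ ?_⟩
  have h3 : algebraMap Γ(Y G, ychart G j) m.ResidueField
      (toY G j (minor (fun i => ProjChart.dehom N k j (G i).1) σ)) = 0 := by
    simpa using hmem
  rw [← h3, minor, RingHom.map_det, RingHom.map_det]
  congr 1
  ext i l
  simp only [Matrix.submatrix_apply, Matrix.of_apply, id_eq, RingHom.mapMatrix_apply, Matrix.map_apply]
  rw [pderiv_dehom]
  exact hvapp _

/-- The homogeneous Jacobian condition implies smoothness, over an arbitrary field. -/
theorem smooth_of_jacCond (hN : N = n + d) (hJ : JacCond fun i => (G i).1) :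
    SmoothOfRelativeDimension n (yStr G) := by
  have hcov : ⨆ j : Fin (N + 1), ((⟨ychart G j, isAffineOpen_ychart G j⟩ : (Y G).affineOpens) : (Y G).Opens) = ⊤ := by
    rw [← (Scheme.Hom.preimage_top (yι G)), ← H705.HypIdeal.iSup_chart (r := N) (k := k), Scheme.Hom.preimage_iSup]
  refine HasRingHomProperty.of_iSup_eq_top (P := @SmoothOfRelativeDimension n)
    (fun j : Fin (N + 1) => (⟨ychart G j, isAffineOpen_ychart G j⟩ : (Y G).affineOpens)) hcov fun j => ?_
  have h1 := locally_strMap G hN hJ j
  have h2 : strMap G j = ((yStr G).appLE ⊤ (ychart G j) le_top).hom.comp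
      (Scheme.ΓSpecIso (CommRingCat.of k)).commRingCatIsoToRingEquiv.symm.toRingHom := by
    ext c
    exact (yStr_appLE G j c).symm
  have h3 : ((yStr G).appLE ⊤ (ychart G j) le_top).hom = (strMap G j).comp
      (Scheme.ΓSpecIso (CommRingCat.of k)).commRingCatIsoToRingEquiv.toRingHom := by
    rw [h2, RingHom.comp_assoc]
    ext c
    simp
  change RingHom.Locally (RingHom.IsStandardSmoothOfRelativeDimension n)
    ((yStr G).appLE ⊤ (ychart G j) le_top).hom
  rw [h3]
  exact (RingHom.locally_respectsIso RingHom.isStandardSmoothOfRelativeDimension_respectsIso).2 _ _ h1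

end Groth.Agent.Lefpen.H649.Converse
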